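import Groth.Agent.GalCohAux.AmpleFinite
import Groth.Agent.CartDiv.Difference
import Mathlib.AlgebraicGeometry.IdealSheaf.Subscheme

/-!
# Locally principal closed subschemes through a point avoiding finitely many others
-/

set_option autoImplicit false

universe u

open CategoryTheory Limits AlgebraicGeometry Opposite TopologicalSpace

noncomputable section

namespace Groth.Agent.GrpdLib.Cut5230

open Groth.Agent.QCoh Groth.Agent.Props.GenLocus Groth.Agent.Props.GenTensor Groth.Agent.Props.GenProd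
  Groth.Agent.Props.GenExt Groth.Agent.Props.AmpleFrames Groth.Agent.Props.AmpleBase Groth.Agent.AmpleLib

variable {X : Scheme.{u}} {L : X.Modules}

/-- Outside the loci of two sections is outside the locus of their sum. -/
lemma notMem_locus_add {M : X.Modules} (hM : PicF.IsInvertible M) {O : X.Opens} (σ τ : Γ(M, O)) {x : X}
    (hs : x ∉ locus σ) (ht : x ∉ locus τ) : x ∉ locus (σ + τ) := by
  intro hx
  have hxO : x ∈ O := locus_le _ hx
  obtain ⟨V, e, hxV, he⟩ := exists_isGen hM x
  have hneg : x ∉ locus ((-1 : Γ(X, O)) • σ) := by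
    rw [locus_smul hM]
    exact fun h => hs h.2
  have h := CartDiv.Avoid.mem_locus_add hM ((-1 : Γ(X, O)) • σ) (σ + τ) hxO hneg hx
  rw [neg_one_smul, neg_add_cancel_left] at h
  exact ht h

/-- A section of a positive power generating at finitely many points but not at a given point which
is a generization of none of them. -/
theorem exists_nonvanishing_avoiding (h : CohB1.IsAmple L) (E : Finset X) (w : X)
    (hw : ∀ y ∈ E, y ∉ closure ({w} : Set X)) :
    E.Nonempty → ∃ (K : ℕ) (s : Coh.structureModule X ⟶ CohB1.tensorPow L (K + 1)),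
      (E : Set X) ⊆ CohB1.genLocus _ s ∧ w ∉ CohB1.genLocus _ s := by
  classical
  induction hn : E.card using Nat.strong_induction_on generalizing E with
  | _ n ih =>
    intro hne
    obtain ⟨z, hz, hmax⟩ := GalCohAux.AmpleFinite.exists_notMem_closure hne
    let O : X.Opens := ⟨((⋃ y ∈ (E.erase z : Set X), closure {y}) ∪ closure {w})ᶜ,
      (((E.erase z).finite_toSet.isClosed_biUnion fun y _ => isClosed_closure).union
        isClosed_closure).isOpen_compl⟩
    have hzO : z ∈ O := by
      rintro (hc | hc)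
      · obtain ⟨y, hy, hzy⟩ := Set.mem_iUnion₂.mp hc
        exact Finset.ne_of_mem_erase hy (hmax y (Finset.mem_of_mem_erase hy) hzy)
      · exact hw z hz hc
    obtain ⟨m, t, hzt, htO, -⟩ := exists_affine_genLocus_le h hzO
    have hty : ∀ y ∈ E.erase z, y ∉ CohB1.genLocus _ t := fun y hy hyt =>
      htO hyt (Or.inl (Set.mem_iUnion₂.mpr ⟨y, hy, subset_closure rfl⟩))
    have htw : w ∉ CohB1.genLocus _ t := fun hwt => htO hwt (Or.inr (subset_closure rfl))
    rcases (E.erase z).eq_empty_or_nonempty with he | hne'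
    · refine ⟨m, t, fun y hy => ?_, htw⟩
      by_cases hyz : y = z
      · exact hyz ▸ hzt
      · exact absurd (Finset.mem_erase.mpr ⟨hyz, hy⟩ : y ∈ E.erase z) (by simp [he])
    obtain ⟨K, s, hs, hsw⟩ := ih (E.erase z).card (hn ▸ Finset.card_erase_lt_of_mem hz) _
      (fun y hy => hw y (Finset.mem_of_mem_erase hy)) rfl hne'
    by_cases hzs : z ∈ CohB1.genLocus _ s
    · exact ⟨K, s, fun y hy => if hyz : y = z then hyz ▸ hzs else hs (Finset.mem_erase.mpr ⟨hyz, hy⟩),
        hsw⟩
    obtain ⟨N, hN⟩ : ∃ N, N + 1 = (K + 1) * (m + 1) := ⟨K * m + K + m, by ring⟩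
    obtain ⟨S, hS⟩ := exists_pow h.1 s (m + 1) (N + 1) hN
    obtain ⟨T, hT⟩ := exists_pow h.1 t (K + 1) (N + 1) (hN.trans (Nat.mul_comm _ _))
    have eS := genLocus_pow h.1 s (Nat.succ_pos m) S hS
    have eT := genLocus_pow h.1 t (Nat.succ_pos K) T hT
    refine ⟨N, S + T, fun y hy => ?_, ?_⟩
    · by_cases hyz : y = z
      · subst hyz
        exact Props.AmpleQA.mem_genLocus_add h.1 S T (eS ▸ hzs) (eT ▸ hzt)
      · rw [add_comm S T]
        have hy' : y ∈ E.erase z := Finset.mem_erase.mpr ⟨hyz, hy⟩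
        exact Props.AmpleQA.mem_genLocus_add h.1 T S (eT ▸ hty y hy') (eS ▸ hs hy')
    · intro hwST
      rw [genLocus_eq_locus, show sec (S + T) ⊤ = sec S ⊤ + sec T ⊤ from rfl] at hwST
      refine notMem_locus_add (AmpleLib.isInvertible_tensorPow h.1 _) _ _ ?_ ?_ hwST
      · rw [← genLocus_eq_locus, eS]; exact hsw
      · rw [← genLocus_eq_locus, eT]; exact htw

/-- A locally principal closed subscheme containing a given point and avoiding finitely many points
none of which is a specialization of it. -/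
theorem exists_principal_avoiding (h : CohB1.IsAmple L) (E : Finset X) (hE : E.Nonempty) (w : X)
    (hw : ∀ y ∈ E, y ∉ closure ({w} : Set X)) :
    ∃ J : X.IdealSheafData, w ∈ J.support ∧ (∀ y ∈ E, y ∉ J.support) ∧
      ∀ x : X, ∃ W : X.affineOpens, x ∈ W.1 ∧ ∃ f, J.ideal W = Ideal.span {f} := by
  obtain ⟨K, s, hs, hsw⟩ := exists_nonvanishing_avoiding h E w hw hE
  have hP : PicF.IsInvertible (CohB1.tensorPow L (K + 1)) := AmpleLib.isInvertible_tensorPow h.1 _
  let J := PicF2.zeroScheme _ s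
  have hloc : ∀ x : X, ∃ (W : X.affineOpens) (f : Γ(X, W.1)), x ∈ W.1 ∧
      J.ideal W = Ideal.span {f} ∧ (CohB1.genLocus _ s ⊓ W.1 : X.Opens) = X.basicOpen f := by
    intro x
    obtain ⟨V, e, hxV, he⟩ := exists_isGen h.1 x
    obtain ⟨W, hW, hxW, hWV⟩ := exists_isAffineOpen_mem_and_subset hxV
    have he' := he.restrict (hWV : W ≤ V)
    have ha : sec s W = co (K + 1) (sec s ⊤) le_top he' • pw _ (res L (hWV : W ≤ V) e) (K + 1) := by
      rw [← sec_res s le_top]; exact co_spec _ _ _
    exact ⟨⟨W, hW⟩, _, hxW,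
      ZeroSchemeLib.zeroScheme_ideal_eq_span hP s ⟨W, hW⟩ (isGen_pw he' _) ha,
      genLocus_inf (isGen_pw he' _) s ha⟩
  have hsupp : ∀ x : X, x ∈ J.support ↔ x ∉ CohB1.genLocus _ s := by
    intro x
    obtain ⟨W, f, hxW, hJ, hb⟩ := hloc x
    have hb' := IdealSh.Regular.basicOpen_eq_compl_support hJ
    have : x ∈ (X.basicOpen f : Set X) ↔ x ∈ CohB1.genLocus _ s := by
      rw [← hb]; exact ⟨fun h => h.1, fun h => ⟨h, hxW⟩⟩
    rw [← this, hb']
    exact ⟨fun hx h' => h'.2 hx, fun hx => by_contra fun h' => hx ⟨hxW, h'⟩⟩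
  refine ⟨J, (hsupp w).mpr hsw, fun y hy hyJ => (hsupp y).mp hyJ (hs hy), fun x => ?_⟩
  obtain ⟨W, f, hxW, hJ, -⟩ := hloc x
  exact ⟨W, hxW, f, hJ⟩

end Groth.Agent.GrpdLib.Cut5230
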