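import Groth.Agent.GrpdLib.Slice16047.Flat
import Groth.Agent.Wt.CMSlice
import Groth.Agent.GrpdLib.Cut5230.Section
import Mathlib.AlgebraicGeometry.IdealSheaf.Subscheme
import Mathlib.RingTheory.LocalRing.ResidueField.Fiber
import Mathlib.RingTheory.Ideal.AssociatedPrime.Finiteness
import Mathlib.RingTheory.FiniteStability

/-!
# Associated points of a fibre and flatness of a principal cut
-/

set_option autoImplicit false
set_option backward.isDefEq.respectTransparency false
set_option backward.isDefEq.respectTransparency.types false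

universe u

open CategoryTheory Limits AlgebraicGeometry TopologicalSpace TensorProduct

noncomputable section

namespace Groth.Agent.GrpdLib.Cut5230

/-- The cut of an affine chart is a chart of the base change of the cut. -/
theorem exists_chart₂ {F Y Z : Scheme.{u}} (u : Y ⟶ F) (v : Y ⟶ Z) {A R C : Type u} [CommRing A]
    [CommRing R] [CommRing C] (w : Spec (.of A) ⟶ F) [Mono w] (wZ : Spec (.of R) ⟶ Z) (I : Ideal A)
    (oC : Spec (.of C) ⟶ Y) [IsOpenImmersion oC] (σ : R →+* C) (τ : A →+* C)
    (hs : oC ≫ v = Spec.map (CommRingCat.ofHom σ) ≫ wZ)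
    (ht : oC ≫ u = Spec.map (CommRingCat.ofHom τ) ≫ w) :
    let ι₀ := Spec.map (CommRingCat.ofHom (Ideal.Quotient.mk I)) ≫ w
    ∃ ψ : Spec (.of (C ⧸ I.map τ)) ⟶ pullback ι₀ u, IsOpenImmersion ψ ∧
      ψ ≫ pullback.snd ι₀ u ≫ v =
        Spec.map (CommRingCat.ofHom ((Ideal.Quotient.mk (I.map τ)).comp σ)) ≫ wZ ∧
      ∀ p c, pullback.snd ι₀ u p = oC c → p ∈ Set.range ψ := by
  intro ι₀
  have hsq := Slice16047.isPullback_comp_mono (AlgSp.InfRing.isPullback_quotient I τ) w
  rw [← ht] at hsq
  let ψ : Spec (.of (C ⧸ I.map τ)) ⟶ pullback ι₀ u :=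
    pullback.lift (Spec.map (CommRingCat.ofHom (Ideal.quotientMap (I.map τ) τ Ideal.le_comap_map)))
      (Spec.map (CommRingCat.ofHom (Ideal.Quotient.mk (I.map τ))) ≫ oC)
      (by rw [Category.assoc]; exact hsq.w.symm)
  have hψs : ψ ≫ pullback.snd ι₀ u = Spec.map (CommRingCat.ofHom (Ideal.Quotient.mk (I.map τ))) ≫ oC :=
    pullback.lift_snd _ _ _
  have hψf : ψ ≫ pullback.fst ι₀ u =
      Spec.map (CommRingCat.ofHom (Ideal.quotientMap (I.map τ) τ Ideal.le_comap_map)) :=
    pullback.lift_fst _ _ _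
  have hcart : IsPullback ψ (Spec.map (CommRingCat.ofHom (Ideal.Quotient.mk (I.map τ))))
      (pullback.snd ι₀ u) oC := by
    refine IsPullback.of_right ?_ hψs (IsPullback.of_hasPullback ι₀ u)
    rw [hψf]
    exact hsq.flip
  refine ⟨ψ, MorphismProperty.of_isPullback (P := @IsOpenImmersion) hcart.flip inferInstance, ?_,
    fun p c hpc => ?_⟩
  · rw [reassoc_of% hψs, hs, ← Category.assoc, ← Spec.map_comp]
    rfl
  · obtain ⟨z, hz, -⟩ := Scheme.Pullback.exists_preimage_pullback p c hpc
    refine ⟨hcart.isoPullback.inv z, ?_⟩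
    rw [← Scheme.Hom.comp_apply, IsPullback.isoPullback_inv_fst, hz]

/-- An element outside the associated primes of the fibre which matter at a prime is regular on the
fibre at that prime. -/
theorem exists_mul_mem_of_associatedPrimes {R B : Type u} [CommRing R] [CommRing B] [Algebra R B]
    [Algebra.FiniteType R B] (P : Ideal R) [P.IsPrime] (Q : Ideal B) [Q.IsPrime]
    (hQP : Q.comap (algebraMap R B) = P) (g : B) (hg : g ∉ Q) (a : B)
    (ha : ∀ q ∈ associatedPrimes (P.Fiber B) (P.Fiber B),
      g ∉ q.comap (Algebra.TensorProduct.includeRight : B →ₐ[R] P.Fiber B).toRingHom →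
      a ∉ q.comap (Algebra.TensorProduct.includeRight : B →ₐ[R] P.Fiber B).toRingHom)
    (m : B) (hm : a * m ∈ P.map (algebraMap R B)) :
    ∃ d ∉ Q, d * m ∈ P.map (algebraMap R B) := by
  have hnoeth : IsNoetherianRing (P.Fiber B) :=
    Algebra.FiniteType.isNoetherianRing P.ResidueField (P.ResidueField ⊗[R] B)
  let φ : B →+* P.Fiber B := (Algebra.TensorProduct.includeRight : B →ₐ[R] P.Fiber B).toRingHom
  have hφ0 : ∀ b ∈ P.map (algebraMap R B), φ b = 0 := by
    intro b hb
    have : P.map (algebraMap R B) ≤ RingHom.ker φ := by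
      rw [Ideal.map_le_iff_le_comap]
      intro r hr
      rw [Ideal.mem_comap, RingHom.mem_ker]
      show Algebra.TensorProduct.includeRight (algebraMap R B r) = 0
      rw [AlgHom.commutes, IsScalarTower.algebraMap_apply R P.ResidueField (P.Fiber B),
        Ideal.algebraMap_residueField_eq_zero.mpr hr, map_zero]
    exact this hb
  -- the prime of the fibre at Q
  let g₀ : P.ResidueField →ₐ[R] Q.ResidueField :=
    Ideal.ResidueField.liftₐ P (Algebra.ofId R Q.ResidueField)
      (fun r hr => by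
        rw [RingHom.mem_ker]
        show algebraMap R Q.ResidueField r = 0
        rw [IsScalarTower.algebraMap_apply R B Q.ResidueField, Ideal.algebraMap_residueField_eq_zero]
        exact hQP.ge hr)
      (fun r hr => by
        rw [Submonoid.mem_comap, IsUnit.mem_submonoid_iff, isUnit_iff_ne_zero]
        show algebraMap R Q.ResidueField r ≠ 0
        rw [IsScalarTower.algebraMap_apply R B Q.ResidueField, ne_eq,
          Ideal.algebraMap_residueField_eq_zero]
        exact fun h => hr (hQP.le h))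
  let ev : P.ResidueField ⊗[R] B →ₐ[R] Q.ResidueField :=
    Algebra.TensorProduct.lift g₀ (IsScalarTower.toAlgHom R B Q.ResidueField)
      (fun _ _ => Commute.all _ _)
  have hev : ∀ b, ev (φ b) = 0 ↔ b ∈ Q := fun b => by
    show ev (1 ⊗ₜ b) = 0 ↔ b ∈ Q
    simp [ev, Ideal.algebraMap_residueField_eq_zero]
  let Q' : Ideal (P.Fiber B) := RingHom.ker ev.toRingHom
  have : Q'.IsPrime := RingHom.ker_isPrime _
  -- the annihilator of the class of m
  obtain ⟨x, hxQ, hx⟩ : ∃ x ∉ Q', x * φ m = 0 := by
    by_contra hcon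
    push Not at hcon
    let L := Localization.AtPrime Q'
    have h0 : algebraMap (P.Fiber B) L (φ m) ≠ 0 := fun h => by
      obtain ⟨⟨x, hx⟩, hxm⟩ := (IsLocalization.map_eq_zero_iff Q'.primeCompl L _).mp h
      exact hcon x hx hxm
    have : Nontrivial L := inferInstance
    obtain ⟨q, hqass, hqle⟩ : ∃ q ∈ associatedPrimes (P.Fiber B) (P.Fiber B),
        (∀ y, y * φ m = 0 → y ∈ q) ∧ q ≤ Q' := by
      obtain ⟨q, hq, hle⟩ := exists_le_isAssociatedPrime_of_isNoetherianRing L
        (algebraMap (P.Fiber B) L (φ m)) h0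
      refine ⟨q.comap (algebraMap (P.Fiber B) L), ?_, fun y hy => ?_, ?_⟩
      · exact Module.associatedPrimes.comap_mem_associatedPrimes_of_mem_associatedPrimes_of_isLocalizedModule_of_fg
          Q'.primeCompl (R' := L) (Algebra.linearMap (P.Fiber B) L) q hq (IsNoetherian.noetherian _)
      · refine Ideal.mem_comap.mpr (hle ?_)
        simp [Submodule.mem_colon_singleton, smul_eq_mul, ← map_mul, hy]
      · have := IsLocalRing.le_maximalIdeal hq.isPrime.ne_top
        exact (Ideal.comap_mono this).trans (IsLocalization.AtPrime.comap_maximalIdeal L Q').le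
    have haq : a ∈ q.comap φ := by
      refine Ideal.mem_comap.mpr (hqle.1 _ ?_)
      rw [← map_mul]
      exact hφ0 _ hm
    refine ha q hqass (fun h => hg ?_) haq
    exact (hev g).mp (hqle.2 h)
  obtain ⟨r, hr, b, hrb⟩ := Ideal.Fiber.exists_smul_eq_one_tmul P x
  have hb : b ∉ Q := fun h => by
    have h1 : ev (r • x) = 0 := by rw [hrb]; exact (hev b).mpr h
    rw [map_smul, Algebra.smul_def, mul_eq_zero] at h1
    rcases h1 with h1 | h1
    · refine hr (hQP.le (Ideal.mem_comap.mpr ?_))
      rwa [IsScalarTower.algebraMap_apply R B Q.ResidueField,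
        Ideal.algebraMap_residueField_eq_zero] at h1
    · exact hxQ h1
  have hbm : φ (b * m) = 0 := by
    rw [map_mul]
    show (1 ⊗ₜ b : P.Fiber B) * φ m = 0
    rw [← hrb, smul_mul_assoc, hx, smul_zero]
  -- kernel of the map to the fibre
  let I := P.map (algebraMap R B)
  let S := Algebra.algebraMapSubmonoid (B ⧸ I) P.primeCompl
  let C := Localization S
  have hker : P ≤ RingHom.ker (Algebra.ofId R C) := fun r hr => by
    rw [RingHom.mem_ker]
    show algebraMap R C r = 0
    rw [IsScalarTower.algebraMap_apply R (B ⧸ I) C, IsScalarTower.algebraMap_apply R B (B ⧸ I),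
      Ideal.Quotient.algebraMap_eq, Ideal.Quotient.eq_zero_iff_mem.mpr
        (show algebraMap R B r ∈ I from Ideal.mem_map_of_mem _ hr), map_zero]
  have hunit : P.primeCompl ≤ (IsUnit.submonoid C).comap (Algebra.ofId R C) := fun r hr => by
    rw [Submonoid.mem_comap, IsUnit.mem_submonoid_iff]
    show IsUnit (algebraMap R C r)
    rw [IsScalarTower.algebraMap_apply R (B ⧸ I) C]
    exact IsLocalization.map_units C (⟨_, Algebra.mem_algebraMapSubmonoid_of_mem ⟨r, hr⟩⟩ : S)
  let ψ : P.ResidueField ⊗[R] B →ₐ[R] C :=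
    Algebra.TensorProduct.lift (Ideal.ResidueField.liftₐ P (Algebra.ofId R C) hker hunit)
      (IsScalarTower.toAlgHom R B C) (fun _ _ => Commute.all _ _)
  have hm0 : algebraMap (B ⧸ I) C (Ideal.Quotient.mk I (b * m)) = 0 := by
    rw [← Ideal.Quotient.algebraMap_eq, ← IsScalarTower.algebraMap_apply]
    have : ψ (1 ⊗ₜ (b * m)) = algebraMap B C (b * m) := by simp [ψ]
    rw [← this]
    exact (congrArg ψ hbm).trans (map_zero ψ)
  obtain ⟨⟨_, r', hr', rfl⟩, hc⟩ := (IsLocalization.map_eq_zero_iff S C _).mp hm0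
  refine ⟨algebraMap R B r' * b, fun h => ?_, Ideal.Quotient.eq_zero_iff_mem.mp ?_⟩
  · exact (Ideal.IsPrime.mem_or_mem ‹Q.IsPrime› h).elim (fun h => hr' (hQP.le h)) hb
  · rw [mul_assoc, map_mul]
    exact hc

end Groth.Agent.GrpdLib.Cut5230
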