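import Groth.Agent.GrpdLib.Cut5230.Step
import Groth.Agent.AmpleLib.Rel
import Groth.Agent.Wt.AmpleThick
import Mathlib.AlgebraicGeometry.Morphisms.Finite
import Mathlib.Topology.JacobsonSpace

/-!
# Cutting a fibre down to finitely many points by a closed subscheme
-/

set_option autoImplicit false
set_option backward.isDefEq.respectTransparency false
set_option backward.isDefEq.respectTransparency.types false

universe u

open CategoryTheory Limits AlgebraicGeometry TopologicalSpace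

noncomputable section

namespace Groth.Agent.GrpdLib.Cut5230

variable {T X Y Z : Scheme.{u}}

/-- A point closed in its fibre. -/
def IsClosedInFibre (f : X ⟶ T) (x : X) : Prop :=
  ∀ x' : X, x' ∈ closure ({x} : Set X) → f x' = f x → x' = x

/-- A morphism locally of finite type over a base sends points closed in their fibre to such points. -/
theorem IsClosedInFibre.map {pX : X ⟶ T} {pY : Y ⟶ T} [LocallyOfFiniteType pX] [LocallyOfFiniteType pY]
    (u : Y ⟶ X) (hu : u ≫ pX = pY) {y : Y} (hy : IsClosedInFibre pY y) : IsClosedInFibre pX (u y) := by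
  intro x' hx' hx'p
  let t := pY y
  have hut : pX (u y) = t := by rw [← Scheme.Hom.comp_apply, hu]
  let uf : pY.fiber t ⟶ pX.fiber t :=
    pullback.lift (pY.fiberι t ≫ u) (pY.fiberToSpecResidueField t)
      (by rw [Category.assoc, hu]; exact pY.fiber_fac t)
  have huf : uf ≫ pX.fiberι t = pY.fiberι t ≫ u := pullback.lift_fst _ _ _
  have : LocallyOfFiniteType (pY.fiberToSpecResidueField t) :=
    MorphismProperty.pullback_snd _ _ inferInstance
  have : LocallyOfFiniteType (pX.fiberToSpecResidueField t) :=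
    MorphismProperty.pullback_snd _ _ inferInstance
  have : LocallyOfFiniteType (uf ≫ pX.fiberToSpecResidueField t) := by
    rw [show uf ≫ pX.fiberToSpecResidueField t = pY.fiberToSpecResidueField t from pullback.lift_snd _ _ _]
    infer_instance
  have : LocallyOfFiniteType uf := locallyOfFiniteType_of_comp uf (pX.fiberToSpecResidueField t)
  have : JacobsonSpace (pX.fiber t) := LocallyOfFiniteType.jacobsonSpace (pX.fiberToSpecResidueField t)
  obtain ⟨η, hη⟩ : ∃ η, pY.fiberι t η = y :=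
    ⟨(pY.fiberHomeo t).symm ⟨y, rfl⟩, pY.fiberι_fiberHomeo_symm t ⟨y, rfl⟩⟩
  have hηc : IsClosed ({η} : Set (pY.fiber t)) := by
    rw [← closure_eq_iff_isClosed]
    refine Set.Subset.antisymm (fun η' hη' => ?_) subset_closure
    have h1 : pY.fiberι t η' ∈ closure ({y} : Set Y) := by
      have := map_mem_closure (pY.fiberι t).continuous hη' (Set.mapsTo_image (pY.fiberι t) {η})
      rwa [Set.image_singleton, hη] at this
    have h2 : pY (pY.fiberι t η') = pY y := (pY.fiberHomeo t η').2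
    exact (pY.fiberι t).isEmbedding.injective ((hy _ h1 h2).trans hη.symm)
  have hcl : IsClosed ({uf η} : Set (pX.fiber t)) :=
    uf.closePoints_subset_preimage_closedPoints hηc
  obtain ⟨ξ, hξ⟩ : ∃ ξ, pX.fiberι t ξ = x' :=
    ⟨(pX.fiberHomeo t).symm ⟨x', hx'p.trans hut⟩, pX.fiberι_fiberHomeo_symm t ⟨x', hx'p.trans hut⟩⟩
  have hufη : pX.fiberι t (uf η) = u y := by
    rw [← Scheme.Hom.comp_apply, huf, Scheme.Hom.comp_apply, hη]
  have : ξ ∈ closure ({uf η} : Set (pX.fiber t)) := by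
    rw [(pX.fiberι t).isEmbedding.isInducing.closure_eq_preimage_closure_image, Set.image_singleton,
      hufη, Set.mem_preimage, hξ]
    exact hx'
  rw [hcl.closure_eq, Set.mem_singleton_iff] at this
  rw [← hξ, this, hufη]

/-- The image of a fibre is determined by the images of its closed points when these are finitely
many points closed in their fibres. -/
theorem image_fibre_subset [IsLocallyNoetherian Z] (pX : X ⟶ T) (pZ : Z ⟶ T) (pY : Y ⟶ T)
    (u : Y ⟶ X) (v : Y ⟶ Z) (hu : u ≫ pX = pY) (hv : v ≫ pZ = pY)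
    [LocallyOfFiniteType v] [LocallyOfFiniteType pX] [LocallyOfFiniteType pY]
    (z : Z) (hzc : IsClosedInFibre pZ z) (W₀ : Set X) (hfin : W₀.Finite)
    (h : ∀ y, v y = z → IsClosedInFibre pY y → u y ∈ W₀ ∧ IsClosedInFibre pX (u y))
    (y : Y) (hy : v y = z) : ∃ w ∈ W₀, u y = w := by
  have : LocallyOfFiniteType (v.fiberToSpecResidueField z) :=
    MorphismProperty.pullback_snd _ _ inferInstance
  have : JacobsonSpace (v.fiber z) := LocallyOfFiniteType.jacobsonSpace (v.fiberToSpecResidueField z)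
  let V₀ := {w ∈ W₀ | IsClosedInFibre pX w ∧ pX w = pZ z}
  have hV : IsClosed (⋃ w ∈ V₀, closure ({w} : Set X)) :=
    (hfin.subset fun w hw => hw.1).isClosed_biUnion fun w _ => isClosed_closure
  let g : v.fiber z → X := fun η => u (v.fiberι z η)
  have hg : Continuous g := u.continuous.comp (v.fiberι z).continuous
  have hsub : closedPoints (v.fiber z) ⊆ g ⁻¹' (⋃ w ∈ V₀, closure ({w} : Set X)) := by
    intro η hη
    have hvη : v (v.fiberι z η) = z := (v.fiberHomeo z η).2
    have hclY : IsClosedInFibre pY (v.fiberι z η) := by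
      intro y' hy' hp
      have hvy' : v y' = z := by
        refine hzc _ ?_ ?_
        · have := map_mem_closure v.continuous hy' (Set.mapsTo_image v {v.fiberι z η})
          rwa [Set.image_singleton, hvη] at this
        · rw [← Scheme.Hom.comp_apply, hv, hp, ← hv, Scheme.Hom.comp_apply, hvη]
      obtain ⟨η', rfl⟩ : ∃ η', v.fiberι z η' = y' :=
        ⟨(v.fiberHomeo z).symm ⟨y', hvy'⟩, v.fiberι_fiberHomeo_symm z ⟨y', hvy'⟩⟩
      have : η' ∈ closure ({η} : Set (v.fiber z)) := by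
        rw [(v.fiberι z).isEmbedding.isInducing.closure_eq_preimage_closure_image, Set.image_singleton]
        exact hy'
      rw [(show IsClosed ({η} : Set (v.fiber z)) from hη).closure_eq, Set.mem_singleton_iff] at this
      rw [this]
    obtain ⟨h1, h2⟩ := h _ hvη hclY
    refine Set.mem_biUnion (show u (v.fiberι z η) ∈ V₀ from ⟨h1, h2, ?_⟩) (subset_closure rfl)
    rw [← Scheme.Hom.comp_apply u pX, hu, ← hv, Scheme.Hom.comp_apply, hvη]
  have huniv := (closure_closedPoints (X := v.fiber z)) ▸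
    closure_minimal hsub (hV.preimage hg)
  obtain ⟨η, hη⟩ : ∃ η, v.fiberι z η = y :=
    ⟨(v.fiberHomeo z).symm ⟨y, hy⟩, v.fiberι_fiberHomeo_symm z ⟨y, hy⟩⟩
  obtain ⟨w, hw, hmem⟩ := Set.mem_iUnion₂.mp (huniv (Set.mem_univ η))
  refine ⟨w, hw.1, hw.2.1 _ (hη ▸ hmem) ?_⟩
  rw [hw.2.2, ← Scheme.Hom.comp_apply, hu, ← hv, Scheme.Hom.comp_apply, hy]

/-- Flatness at a point transports along an open immersion at the source. -/
theorem flat_stalkMap_comp {W : Scheme.{u}} (e : W ⟶ X) [IsOpenImmersion e] (h : X ⟶ Z) (w : W)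
    (hw : (h.stalkMap (e w)).hom.Flat) : ((e ≫ h).stalkMap w).hom.Flat := by
  rw [Scheme.Hom.stalkMap_comp, CommRingCat.hom_comp]
  exact RingHom.Flat.comp hw (.of_bijective (ConcreteCategory.bijective_of_isIso (e.stalkMap w)))

theorem flat_stalkMap_of_comp {W : Scheme.{u}} (e : W ⟶ X) [IsOpenImmersion e] (h : X ⟶ Z) (w : W)
    (hw : ((e ≫ h).stalkMap w).hom.Flat) : (h.stalkMap (e w)).hom.Flat := by
  rw [Scheme.Hom.stalkMap_comp] at hw
  have h2 : (inv (e.stalkMap w)).hom.Flat := .of_bijective (ConcreteCategory.bijective_of_isIso _)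
  have h3 := RingHom.Flat.comp hw h2
  rwa [← CommRingCat.hom_comp, Category.assoc, IsIso.hom_inv_id, Category.comp_id] at h3

variable {F : Scheme.{u}}

/-- The fibre of `v` met by the pullback of a subscheme. -/
def cutFibre (i : F ⟶ X) (u : Y ⟶ X) (v : Y ⟶ Z) (z : Z) : Set Y :=
  u ⁻¹' Set.range i ∩ v ⁻¹' {z}

/-- A closed subscheme cutting the fibre down further, unless its image is finite already. -/
theorem exists_next (pX : X ⟶ T) (pY : Y ⟶ T) (pZ : Z ⟶ T) [IsNoetherian Y] [IsLocallyNoetherian Z]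
    [LocallyOfFiniteType pX] [LocallyOfFiniteType pY]
    (u : Y ⟶ X) (v : Y ⟶ Z) [LocallyOfFiniteType v] (hu : u ≫ pX = pY) (hv : v ≫ pZ = pY)
    {L : X.Modules} (hL : CohB1.IsAmple L) (z : Z) (hzc : IsClosedInFibre pZ z)
    (j : F ⟶ X) [IsClosedImmersion j]
    (hflat : ∀ p : ↥(pullback j u), v (pullback.snd j u p) = z →
      ((pullback.snd j u ≫ v).stalkMap p).hom.Flat)
    (hinf : ¬ (u '' cutFibre j u v z).Finite) :
    ∃ (F' : Scheme.{u}) (j' : F' ⟶ X), IsClosedImmersion j' ∧ (cutFibre j' u v z).Nonempty ∧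
      closure (cutFibre j' u v z) ⊂ closure (cutFibre j u v z) ∧
      ∀ p : ↥(pullback j' u), v (pullback.snd j' u p) = z →
        ((pullback.snd j' u ≫ v).stalkMap p).hom.Flat := by
  classical
  let YF := pullback j u
  let uF : YF ⟶ F := pullback.fst j u
  let vF : YF ⟶ Z := pullback.snd j u ≫ v
  have : IsClosedImmersion (pullback.snd j u) := inferInstance
  have : LocallyOfFiniteType vF := inferInstance
  have : LocallyOfFiniteType (pullback.snd j u) := inferInstance
  have : IsLocallyNoetherian YF := LocallyOfFiniteType.isLocallyNoetherian (pullback.snd j u)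
  have : CompactSpace YF := QuasiCompact.compactSpace_of_compactSpace (pullback.snd j u)
  have : IsNoetherian YF := {}
  obtain ⟨A, hA⟩ := exists_fibrePts uF vF z
  have hcut : ∀ y, y ∈ cutFibre j u v z ↔ ∃ q : YF, pullback.snd j u q = y ∧ vF q = z := by
    intro y
    constructor
    · rintro ⟨⟨a, ha⟩, hy⟩
      obtain ⟨q, -, hq⟩ := Scheme.Pullback.exists_preimage_pullback (f := j) (g := u) a y ha
      refine ⟨q, hq, ?_⟩
      rw [Scheme.Hom.comp_apply, hq]; exact hy
    · rintro ⟨q, rfl, hq⟩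
      refine ⟨⟨uF q, ?_⟩, ?_⟩
      · rw [← Scheme.Hom.comp_apply, pullback.condition, Scheme.Hom.comp_apply]
      · rw [Scheme.Hom.comp_apply] at hq; exact hq
  have hpYF : ∀ q, vF q = z → (uF ≫ j ≫ pX) q = pZ z := fun q hq => by
    rw [← Category.assoc, show uF ≫ j = pullback.snd j u ≫ u from pullback.condition, Category.assoc,
      hu, ← hv, ← Category.assoc, Scheme.Hom.comp_apply, show (pullback.snd j u ≫ v) q = z from hq]
  let pF := j ≫ pX
  have hF : LocallyOfFiniteType pF := inferInstance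
  let pYF := pullback.snd j u ≫ pY
  have huF : uF ≫ pF = pYF := by
    show pullback.fst j u ≫ j ≫ pX = _
    rw [pullback.condition_assoc, hu]
  have hvF : vF ≫ pZ = pYF := by rw [Category.assoc, hv]
  let W₀ := {w : F | ∃ q, vF q = z ∧ IsClosedInFibre pYF q ∧ uF q = w}
  have hW₀ : ¬ W₀.Finite := by
    intro hfin
    refine hinf ((hfin.image j).subset ?_)
    rintro _ ⟨y, hy, rfl⟩
    obtain ⟨q, rfl, hq⟩ := (hcut y).mp hy
    obtain ⟨w, hw, hwq⟩ := image_fibre_subset pF pZ pYF uF vF huF hvF z hzc W₀ hfin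
      (fun q hq hc => ⟨⟨q, hq, hc, rfl⟩, hc.map uF huF⟩) q hq
    exact ⟨w, hw, by rw [← hwq, ← Scheme.Hom.comp_apply, pullback.condition, Scheme.Hom.comp_apply]⟩
  obtain ⟨w, ⟨q₁, hq₁, hq₁c, rfl⟩, hwA⟩ := (Set.Infinite.sdiff hW₀ (hA.fin.image uF)).nonempty
  let E := (hA.fin.image uF).toFinset
  have hE : E.Nonempty := (Set.Finite.toFinset_nonempty _).mpr ((hA.nonempty ⟨q₁, hq₁⟩).image uF)
  have hwE : ∀ e ∈ E, e ∉ closure ({uF q₁} : Set F) := by
    intro e he hcl
    obtain ⟨a, ha, rfl⟩ := (Set.Finite.mem_toFinset _).mp he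
    refine hwA ⟨a, ha, hq₁c.map uF huF _ hcl ?_⟩
    rw [← Scheme.Hom.comp_apply, ← Scheme.Hom.comp_apply uF pF, hpYF a (hA.lies a ha), hpYF q₁ hq₁]
  have hLF : CohB1.IsAmple ((Scheme.Modules.pullback j).obj L) := Wt.AmpleThick.isAmple_pullback j hL
  obtain ⟨J, hwJ, hEJ, hJ⟩ := exists_principal_avoiding hLF E hE (uF q₁) hwE
  have hrange : ∀ y, y ∈ cutFibre (J.subschemeι ≫ j) u v z ↔
      ∃ q : YF, pullback.snd j u q = y ∧ vF q = z ∧ uF q ∈ J.support := by
    intro y
    constructor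
    · rintro ⟨⟨a, ha⟩, hy⟩
      rw [Scheme.Hom.comp_apply] at ha
      obtain ⟨q, hq1, hq⟩ := Scheme.Pullback.exists_preimage_pullback (f := j) (g := u) (J.subschemeι a) y ha
      refine ⟨q, hq, ?_, ?_⟩
      · rw [Scheme.Hom.comp_apply, hq]; exact hy
      · show pullback.fst j u q ∈ J.support
        rw [hq1, ← SetLike.mem_coe, ← J.range_subschemeι]
        exact ⟨a, rfl⟩
    · rintro ⟨q, rfl, hq, hqJ⟩
      refine ⟨?_, ((hcut _).mpr ⟨q, rfl, hq⟩).2⟩
      rw [← SetLike.mem_coe, ← J.range_subschemeι] at hqJ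
      obtain ⟨a, ha⟩ := hqJ
      exact ⟨a, by rw [Scheme.Hom.comp_apply, ha, ← Scheme.Hom.comp_apply, pullback.condition,
        Scheme.Hom.comp_apply]⟩
  refine ⟨J.subscheme, J.subschemeι ≫ j, inferInstance,
    ⟨_, (hrange _).mpr ⟨q₁, rfl, hq₁, hwJ⟩⟩, ?_, ?_⟩
  · refine Set.ssubset_iff_subset_ne.mpr ⟨closure_mono fun y hy => ?_, fun heq => ?_⟩
    · obtain ⟨q, hq, hqz, -⟩ := (hrange y).mp hy
      exact (hcut y).mpr ⟨q, hq, hqz⟩
    · obtain ⟨a, ha⟩ := hA.nonempty ⟨q₁, hq₁⟩
      have haC : pullback.snd j u a ∈ closure (cutFibre j u v z) :=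
        subset_closure ((hcut _).mpr ⟨a, rfl, hA.lies a ha⟩)
      have hcl : closure (cutFibre (J.subschemeι ≫ j) u v z) ⊆ u ⁻¹' Set.range (J.subschemeι ≫ j) :=
        closure_minimal (fun y hy => hy.1)
          ((J.subschemeι ≫ j).isClosedEmbedding.isClosed_range.preimage u.continuous)
      obtain ⟨b, hb⟩ := hcl (heq ▸ haC)
      rw [Scheme.Hom.comp_apply, ← Scheme.Hom.comp_apply (pullback.snd j u) u, ← pullback.condition,
        Scheme.Hom.comp_apply] at hb
      refine hEJ (uF a) ((Set.Finite.mem_toFinset _).mpr ⟨a, ha, rfl⟩) ?_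
      rw [← SetLike.mem_coe, ← J.range_subschemeι]
      exact ⟨b, j.isClosedEmbedding.injective hb⟩
  -- flatness
  intro p hp
  let e := pullbackRightPullbackFstIso j u J.subschemeι
  have he : e.inv ≫ pullback.snd J.subschemeι uF ≫ vF = pullback.snd (J.subschemeι ≫ j) u ≫ v := by
    rw [← cancel_epi e.hom, Iso.hom_inv_id_assoc, ← Category.assoc e.hom,
      pullbackRightPullbackFstIso_hom_snd, Category.assoc]
  rw [← he]
  refine flat_stalkMap_comp e.inv _ p ?_
  set p' := e.inv p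
  have hp' : vF (pullback.snd J.subschemeι uF p') = z := by
    rw [← Scheme.Hom.comp_apply, ← Scheme.Hom.comp_apply, he, Scheme.Hom.comp_apply]
    exact hp
  obtain ⟨W, hW, f, hf⟩ := hJ (J.subschemeι (pullback.fst J.subschemeι uF p'))
  let κ := J.subschemeCover.f W
  have hκ : κ ≫ J.subschemeι = Spec.map (CommRingCat.ofHom (Ideal.Quotient.mk (J.ideal W))) ≫ W.2.fromSpec :=
    (J.subschemeCover_map_subschemeι W).trans (J.glueDataObjι_ι W)
  let e₂ := pullbackRightPullbackFstIso J.subschemeι uF κ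
  let μ : pullback (κ ≫ J.subschemeι) uF ⟶ pullback J.subschemeι uF :=
    e₂.inv ≫ pullback.snd κ (pullback.fst J.subschemeι uF)
  obtain ⟨c, hc⟩ : ∃ c, κ c = pullback.fst J.subschemeι uF p' := by
    have : pullback.fst J.subschemeι uF p' ∈ (J.subschemeCover.f W).opensRange := by
      rw [J.opensRange_subschemeCover_map]; exact hW
    exact this
  obtain ⟨r, -, hr⟩ := Scheme.Pullback.exists_preimage_pullback (f := κ)
    (g := pullback.fst J.subschemeι uF) c p' hc
  obtain ⟨w₂, hw₂⟩ : ∃ w₂, μ w₂ = p' := ⟨e₂.hom r, by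
    rw [← Scheme.Hom.comp_apply, Iso.hom_inv_id_assoc]; exact hr⟩
  have hμ : μ ≫ pullback.snd J.subschemeι uF ≫ vF = pullback.snd (κ ≫ J.subschemeι) uF ≫ vF := by
    rw [← cancel_epi e₂.hom, ← Category.assoc e₂.hom μ, Iso.hom_inv_id_assoc,
      ← Category.assoc e₂.hom, pullbackRightPullbackFstIso_hom_snd, Category.assoc]
  rw [← hw₂]
  refine flat_stalkMap_of_comp μ _ w₂ ?_
  rw [hμ]
  have hpz : vF (pullback.snd (κ ≫ J.subschemeι) uF w₂) = z := by
    rw [← Scheme.Hom.comp_apply, ← hμ, Scheme.Hom.comp_apply, hw₂, Scheme.Hom.comp_apply]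
    exact hp'
  have hfl : (vF.stalkMap (pullback.snd (κ ≫ J.subschemeι) uF w₂)).hom.Flat := hflat _ (by
    rw [← Scheme.Hom.comp_apply]; exact hpz)
  have hA' : ∀ a ∈ A, uF a ∈ W.1 → uF a ∈ F.basicOpen f := by
    intro a ha haW
    rw [← SetLike.mem_coe, IdealSh.Regular.basicOpen_eq_compl_support hf]
    exact ⟨haW, hEJ _ ((Set.Finite.mem_toFinset _).mpr ⟨a, ha, rfl⟩)⟩
  have H : ∀ (I : Ideal Γ(F, W.1)), I = Ideal.span {f} →
      ∀ (m : Spec (.of (Γ(F, W.1) ⧸ I)) ⟶ F),
      m = Spec.map (CommRingCat.ofHom (Ideal.Quotient.mk I)) ≫ W.2.fromSpec →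
      ∀ q : ↥(pullback m uF), vF (pullback.snd m uF q) = z →
        (vF.stalkMap (pullback.snd m uF q)).hom.Flat →
        ((pullback.snd m uF ≫ vF).stalkMap q).hom.Flat := by
    rintro _ rfl _ rfl q hq hq'
    exact hA.flat_cut W f hA' q hq hq'
  exact H _ hf _ hκ w₂ hpz hfl

/-- A closed subscheme meeting the image of a fibre in finitely many points, with flat pullback. -/
theorem exists_cutting (pX : X ⟶ T) (pY : Y ⟶ T) (pZ : Z ⟶ T) [IsNoetherian Y] [IsLocallyNoetherian Z]
    [LocallyOfFiniteType pX] [LocallyOfFiniteType pY]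
    (u : Y ⟶ X) (v : Y ⟶ Z) [LocallyOfFiniteType v] (hu : u ≫ pX = pY) (hv : v ≫ pZ = pY)
    {L : X.Modules} (hL : CohB1.IsAmple L) (z : Z) (hz : z ∈ Set.range v)
    (hzc : IsClosedInFibre pZ z) (hflat : ∀ y, v y = z → (v.stalkMap y).hom.Flat) :
    ∃ (F : Scheme.{u}) (j : F ⟶ X), IsClosedImmersion j ∧ (u '' cutFibre j u v z).Finite ∧
      (cutFibre j u v z).Nonempty ∧
      ∀ p : ↥(pullback j u), v (pullback.snd j u p) = z →
        ((pullback.snd j u ≫ v).stalkMap p).hom.Flat := by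
  suffices ∀ (C : Closeds Y) (F : Scheme.{u}) (j : F ⟶ X), IsClosedImmersion j →
      closure (cutFibre j u v z) = C → (cutFibre j u v z).Nonempty →
      (∀ p : ↥(pullback j u), v (pullback.snd j u p) = z →
        ((pullback.snd j u ≫ v).stalkMap p).hom.Flat) →
      ∃ (F : Scheme.{u}) (j : F ⟶ X), IsClosedImmersion j ∧ (u '' cutFibre j u v z).Finite ∧
        (cutFibre j u v z).Nonempty ∧
        ∀ p : ↥(pullback j u), v (pullback.snd j u p) = z →
          ((pullback.snd j u ≫ v).stalkMap p).hom.Flat by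
    obtain ⟨y, rfl⟩ := hz
    refine this ⟨closure (cutFibre (𝟙 X) u v _), isClosed_closure⟩ X (𝟙 X) inferInstance rfl
      ⟨y, ⟨u y, rfl⟩, rfl⟩ fun p hp => ?_
    exact flat_stalkMap_comp (pullback.snd (𝟙 X) u) v p (hflat _ hp)
  intro C
  induction C using WellFoundedLT.induction with
  | ind C ih =>
  intro F j hj hC hne hfl
  by_cases hfin : (u '' cutFibre j u v z).Finite
  · exact ⟨F, j, hj, hfin, hne, hfl⟩
  obtain ⟨F', j', hj', hne', hlt, hfl'⟩ := exists_next pX pY pZ u v hu hv hL z hzc j hfl hfin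
  refine ih ⟨_, isClosed_closure⟩ ?_ F' j' hj' rfl hne' hfl'
  rw [← SetLike.coe_ssubset_coe, ← hC]
  exact hlt

end Groth.Agent.GrpdLib.Cut5230
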