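import Groth.Agent.GrpdLib.Cut5230.Chart
import Mathlib.AlgebraicGeometry.Fiber
import Mathlib.AlgebraicGeometry.Noetherian
import Mathlib.AlgebraicGeometry.Morphisms.Flat
import Mathlib.AlgebraicGeometry.Morphisms.FiniteType

/-!
# One step of cutting a fibre
-/

set_option autoImplicit false
set_option backward.isDefEq.respectTransparency false
set_option backward.isDefEq.respectTransparency.types false

universe u

open CategoryTheory Limits AlgebraicGeometry TopologicalSpace TensorProduct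

noncomputable section

namespace Groth.Agent.GrpdLib.Cut5230

variable {F Y Z : Scheme.{u}} (u : Y ⟶ F) (v : Y ⟶ Z) (z : Z)

/-- Finitely many points of a fibre such that a principal cut avoiding them is regular on the fibre. -/
structure FibrePts (A : Set Y) : Prop where
  fin : A.Finite
  lies : ∀ a ∈ A, v a = z
  nonempty : (∃ y, v y = z) → A.Nonempty
  flat_cut : ∀ (W : F.affineOpens) (f : Γ(F, W.1)),
    (∀ a ∈ A, u a ∈ W.1 → u a ∈ F.basicOpen f) →
    ∀ p : ↥(pullback (Spec.map (CommRingCat.ofHom (Ideal.Quotient.mk (Ideal.span {f}))) ≫ W.2.fromSpec) u),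
      v (pullback.snd _ u p) = z → (v.stalkMap (pullback.snd _ u p)).hom.Flat →
      ((pullback.snd (Spec.map (CommRingCat.ofHom (Ideal.Quotient.mk (Ideal.span {f}))) ≫ W.2.fromSpec) u
        ≫ v).stalkMap p).hom.Flat

/-- Flatness of a principal cut on a chart where the equation has a flat quotient. -/
theorem flat_at_chart {Zc : Z.Opens} (hZc : IsAffineOpen Zc) {i : Y.Opens} (hi : IsAffineOpen i)
    (e : i ≤ v ⁻¹ᵁ Zc) (W : F.affineOpens) (f : Γ(F, W.1)) (g₀ : Γ(Y, i))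
    (hg₀W : Y.basicOpen g₀ ≤ u ⁻¹ᵁ W.1) (a : Γ(Y, i)) (n : ℕ)
    (ha : u.appLE W.1 (Y.basicOpen g₀) hg₀W f *
        Y.presheaf.map (homOfLE (Y.basicOpen_le g₀)).op (g₀ ^ n) =
      Y.presheaf.map (homOfLE (Y.basicOpen_le g₀)).op a)
    (g : Γ(Y, i)) (hdvd : g₀ ∣ g)
    (hflat : ((Ideal.Quotient.mk (Ideal.span {algebraMap Γ(Y, i) (Localization.Away g) a})).comp
      ((algebraMap Γ(Y, i) (Localization.Away g)).comp (v.appLE Zc i e).hom)).Flat)
    (p : ↥(pullback (Spec.map (CommRingCat.ofHom (Ideal.Quotient.mk (Ideal.span {f}))) ≫ W.2.fromSpec) u))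
    (hp : pullback.snd (Spec.map (CommRingCat.ofHom (Ideal.Quotient.mk (Ideal.span {f}))) ≫ W.2.fromSpec)
      u p ∈ Y.basicOpen g) :
    ((pullback.snd (Spec.map (CommRingCat.ofHom (Ideal.Quotient.mk (Ideal.span {f}))) ≫ W.2.fromSpec) u
      ≫ v).stalkMap p).hom.Flat := by
  let C := Localization.Away g
  let algD : Algebra Γ(Y, i) Γ(Y, Y.basicOpen g₀) :=
    (Y.presheaf.map (homOfLE (Y.basicOpen_le g₀)).op).hom.toAlgebra
  have : IsLocalization.Away g₀ Γ(Y, Y.basicOpen g₀) := hi.isLocalization_basicOpen g₀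
  have hu₀ : IsUnit (algebraMap Γ(Y, i) C g₀) :=
    isUnit_of_dvd_unit (map_dvd _ hdvd) (IsLocalization.Away.algebraMap_isUnit g)
  let ρ : Γ(Y, Y.basicOpen g₀) →+* C := IsLocalization.Away.lift g₀ hu₀
  have hρ : ∀ b, ρ (algebraMap Γ(Y, i) _ b) = algebraMap Γ(Y, i) C b :=
    IsLocalization.Away.lift_eq g₀ hu₀
  let τ : Γ(F, W.1) →+* C := ρ.comp (u.appLE W.1 (Y.basicOpen g₀) hg₀W).hom
  let oC : Spec (.of C) ⟶ Y := Spec.map (CommRingCat.ofHom (algebraMap Γ(Y, i) C)) ≫ hi.fromSpec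
  have hsC : oC ≫ v = Spec.map (CommRingCat.ofHom ((algebraMap Γ(Y, i) C).comp (v.appLE Zc i e).hom)) ≫
      hZc.fromSpec := by
    rw [CommRingCat.ofHom_comp, Spec.map_comp, Category.assoc, Category.assoc,
      ← IsAffineOpen.SpecMap_appLE_fromSpec v hZc hi e]
    rfl
  have h1 : Spec.map (CommRingCat.ofHom (algebraMap Γ(Y, i) C)) =
      Spec.map (CommRingCat.ofHom ρ) ≫ Spec.map (Y.presheaf.map (homOfLE (Y.basicOpen_le g₀)).op) := by
    rw [← Spec.map_comp]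
    exact congrArg Spec.map (CommRingCat.hom_ext (RingHom.ext fun b => (hρ b).symm))
  have htC : oC ≫ u = Spec.map (CommRingCat.ofHom τ) ≫ W.2.fromSpec := by
    show (Spec.map (CommRingCat.ofHom (algebraMap Γ(Y, i) C)) ≫ hi.fromSpec) ≫ u = _
    rw [h1, Category.assoc (Spec.map (CommRingCat.ofHom ρ)),
      IsAffineOpen.map_fromSpec hi (hi.basicOpen g₀), Category.assoc,
      ← IsAffineOpen.SpecMap_appLE_fromSpec u W.2 (hi.basicOpen g₀) hg₀W, ← Category.assoc,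
      ← Spec.map_comp]
    rfl
  obtain ⟨ψ, hψ, hψh, hψr⟩ := exists_chart₂ u v W.2.fromSpec hZc.fromSpec (Ideal.span {f}) oC
    ((algebraMap Γ(Y, i) C).comp (v.appLE Zc i e).hom) τ hsC htC
  have : IsOpenImmersion ψ := hψ
  have hflatψ : Flat (ψ ≫ pullback.snd (Spec.map (CommRingCat.ofHom (Ideal.Quotient.mk (Ideal.span {f}))) ≫
      W.2.fromSpec) u ≫ v) := by
    rw [hψh]
    have hf' : Flat (Spec.map (CommRingCat.ofHom ((Ideal.Quotient.mk ((Ideal.span {f}).map τ)).comp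
        ((algebraMap Γ(Y, i) C).comp (v.appLE Zc i e).hom)))) := by
      rw [HasRingHomProperty.Spec_iff (P := @Flat), CommRingCat.hom_ofHom]
      have e : (Ideal.span {f}).map τ = Ideal.span {algebraMap Γ(Y, i) C a} := by
        rw [Ideal.map_span, Set.image_singleton]
        have h := congrArg ρ ha
        rw [map_mul] at h
        have h2 : τ f * algebraMap Γ(Y, i) C (g₀ ^ n) = algebraMap Γ(Y, i) C a := by
          rw [← hρ, ← hρ]; exact h
        rw [← h2, Ideal.span_singleton_mul_right_unit]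
        rw [map_pow]; exact hu₀.pow n
      rw [e]
      exact hflat
    infer_instance
  obtain ⟨w, hw⟩ : ∃ w, ψ w = p := by
    set y := pullback.snd (Spec.map (CommRingCat.ofHom (Ideal.Quotient.mk (Ideal.span {f}))) ≫
      W.2.fromSpec) u p with hy
    have hyi : y ∈ i := Y.basicOpen_le g hp
    obtain ⟨c, hc⟩ : hi.primeIdealOf ⟨y, hyi⟩ ∈ Set.range (PrimeSpectrum.comap (algebraMap Γ(Y, i) C)) := by
      rw [PrimeSpectrum.localization_away_comap_range C g]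
      have h3 : hi.fromSpec (hi.primeIdealOf ⟨y, hyi⟩) ∈ Y.basicOpen g := by
        rw [IsAffineOpen.fromSpec_primeIdealOf]; exact hp
      rw [← Scheme.Hom.mem_preimage, hi.fromSpec_preimage_basicOpen] at h3
      exact h3
    refine hψr p c ?_
    show y = hi.fromSpec (Spec.map (CommRingCat.ofHom (algebraMap Γ(Y, i) C)) c)
    rw [show Spec.map (CommRingCat.ofHom (algebraMap Γ(Y, i) C)) c = hi.primeIdealOf ⟨y, hyi⟩ from hc]
    exact (hi.fromSpec_primeIdealOf ⟨y, hyi⟩).symm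
  rw [← hw]
  exact Slice16047.flat_stalkMap_of_chart ψ _ w

set_option maxHeartbeats 800000 in
-- several algebra instances on charts
theorem exists_fibrePts [IsNoetherian Y] [IsLocallyNoetherian Z] [LocallyOfFiniteType v] :
    ∃ A : Set Y, FibrePts u v z A := by
  classical
  obtain ⟨Zc, hZc, hzZ, -⟩ := exists_isAffineOpen_mem_and_subset (x := z) (U := ⊤) trivial
  let P := (hZc.primeIdealOf ⟨z, hzZ⟩).asIdeal
  have hcomp : IsCompact ((v ⁻¹ᵁ Zc : Y.Opens) : Set Y) := NoetherianSpace.isCompact _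
  obtain ⟨Φ, hΦfin, hΦ⟩ : ∃ Φ : Set Y.affineOpens, Φ.Finite ∧
      ((v ⁻¹ᵁ Zc : Y.Opens) : Set Y) = ⋃ i ∈ Φ, ((i : Y.Opens) : Set Y) :=
    isCompact_iff_finite_and_eq_biUnion_affineOpens.mp hcomp |>.imp fun _ h =>
      ⟨h.1, by simpa using congrArg SetLike.coe h.2⟩
  have hle : ∀ i : Φ, (i.1 : Y.Opens) ≤ v ⁻¹ᵁ Zc := fun i r hr => by
    show r ∈ ((v ⁻¹ᵁ Zc : Y.Opens) : Set Y)
    rw [hΦ]; exact Set.mem_biUnion i.2 hr
  letI alg : ∀ i : Φ, Algebra Γ(Z, Zc) Γ(Y, (i.1 : Y.Opens)) := fun i =>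
    (v.appLE Zc i.1 (hle i)).hom.toAlgebra
  have hft : ∀ i : Φ, Algebra.FiniteType Γ(Z, Zc) Γ(Y, (i.1 : Y.Opens)) := fun i =>
    v.finiteType_appLE hZc i.1.2 (hle i)
  have hnoeth : ∀ i : Φ, IsNoetherianRing (P.Fiber Γ(Y, (i.1 : Y.Opens))) := fun i =>
    Algebra.FiniteType.isNoetherianRing P.ResidueField (P.ResidueField ⊗[Γ(Z, Zc)] Γ(Y, (i.1 : Y.Opens)))
  let pt : ∀ i : Φ, PrimeSpectrum (P.Fiber Γ(Y, (i.1 : Y.Opens))) → Y := fun i q =>
    i.1.2.fromSpec (PrimeSpectrum.comap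
      (Algebra.TensorProduct.includeRight :
        Γ(Y, (i.1 : Y.Opens)) →ₐ[Γ(Z, Zc)] P.Fiber Γ(Y, (i.1 : Y.Opens))).toRingHom q)
  let A : Set Y := ⋃ i : Φ, pt i '' {q | q.asIdeal ∈
    associatedPrimes (P.Fiber Γ(Y, (i.1 : Y.Opens))) (P.Fiber Γ(Y, (i.1 : Y.Opens)))}
  have hfinA : A.Finite := by
    have : Finite Φ := hΦfin.to_subtype
    exact Set.finite_iUnion fun i => (Set.Finite.preimage
      (fun a _ b _ h => PrimeSpectrum.ext h) (associatedPrimes.finite _ _)).image _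
  have hover : ∀ (i : Φ) (q : PrimeSpectrum (P.Fiber Γ(Y, (i.1 : Y.Opens)))), v (pt i q) = z := by
    intro i q
    rw [show v (pt i q) = (i.1.2.fromSpec ≫ v) _ from (Scheme.Hom.comp_apply _ _ _).symm,
      ← IsAffineOpen.SpecMap_appLE_fromSpec v hZc i.1.2 (hle i), Scheme.Hom.comp_apply,
      show Spec.map (v.appLE Zc i.1 (hle i)) (PrimeSpectrum.comap _ q) =
        hZc.primeIdealOf ⟨z, hzZ⟩ from ?_, IsAffineOpen.fromSpec_primeIdealOf]
    refine PrimeSpectrum.ext ?_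
    show (q.asIdeal.comap _).comap (algebraMap Γ(Z, Zc) Γ(Y, (i.1 : Y.Opens))) = P
    rw [Ideal.comap_comap, AlgHom.toRingHom_eq_coe, AlgHom.comp_algebraMap,
      IsScalarTower.algebraMap_eq Γ(Z, Zc) P.ResidueField (P.Fiber Γ(Y, (i.1 : Y.Opens))),
      ← Ideal.comap_comap]
    have : (q.asIdeal.comap (algebraMap P.ResidueField _)) = ⊥ :=
      (Ideal.eq_bot_or_top _).resolve_right (Ideal.comap_ne_top _ q.isPrime.ne_top)
    rw [this]
    exact Ideal.ker_algebraMap_residueField P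
  refine ⟨A, hfinA, ?_, ?_, ?_⟩
  · intro a ha
    obtain ⟨i, q, -, rfl⟩ := Set.mem_iUnion.mp ha
    exact hover i q
  · rintro ⟨y, hy⟩
    have hy' : y ∈ ((v ⁻¹ᵁ Zc : Y.Opens) : Set Y) := by
      show v y ∈ Zc
      rw [hy]; exact hzZ
    rw [hΦ] at hy'
    obtain ⟨i, hi, hyi⟩ := Set.mem_iUnion₂.mp hy'
    let ii : Φ := ⟨i, hi⟩
    letI : Algebra Γ(Z, Zc) Γ(Y, (i : Y.Opens)) := alg ii
    let Q := i.2.primeIdealOf ⟨y, hyi⟩
    have hQP : Q.asIdeal.comap (algebraMap Γ(Z, Zc) Γ(Y, (i : Y.Opens))) = P := by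
      refine (congr($(IsAffineOpen.comap_primeIdealOf_appLE Zc hZc (i : Y.Opens) i.2 (hle ii) hyi).asIdeal)).trans ?_
      simp [P, hy]
    obtain ⟨q, hq⟩ : Q ∈ Set.range (PrimeSpectrum.comap (Algebra.TensorProduct.includeRight :
        Γ(Y, (i : Y.Opens)) →ₐ[Γ(Z, Zc)] P.Fiber Γ(Y, (i : Y.Opens))).toRingHom) := by
      let e := PrimeSpectrum.preimageEquivFiber Γ(Z, Zc) Γ(Y, (i : Y.Opens)) (hZc.primeIdealOf ⟨z, hzZ⟩)
      exact ⟨e ⟨Q, PrimeSpectrum.ext hQP⟩, congrArg Subtype.val (e.symm_apply_apply ⟨Q, PrimeSpectrum.ext hQP⟩)⟩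
    have : IsNoetherianRing (P.Fiber Γ(Y, (i : Y.Opens))) := hnoeth ii
    have : Nontrivial (P.Fiber Γ(Y, (i : Y.Opens))) :=
      ⟨⟨0, 1, fun h => q.isPrime.ne_top ((Ideal.eq_top_iff_one _).mpr (h ▸ q.asIdeal.zero_mem))⟩⟩
    obtain ⟨p, hp⟩ := associatedPrimes.nonempty (P.Fiber Γ(Y, (i : Y.Opens)))
      (P.Fiber Γ(Y, (i : Y.Opens)))
    exact ⟨_, Set.mem_iUnion.mpr ⟨ii, ⟨p, hp.isPrime⟩, hp, rfl⟩⟩
  intro W f hf p hpz hflat
  set y := pullback.snd (Spec.map (CommRingCat.ofHom (Ideal.Quotient.mk (Ideal.span {f}))) ≫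
    W.2.fromSpec) u p with hy
  have hyW : u y ∈ W.1 := by
    rw [hy, ← Scheme.Hom.comp_apply, ← pullback.condition, Scheme.Hom.comp_apply,
      Scheme.Hom.comp_apply, ← SetLike.mem_coe, ← W.2.range_fromSpec]
    exact ⟨_, rfl⟩
  have hy' : y ∈ ((v ⁻¹ᵁ Zc : Y.Opens) : Set Y) := by
    show v y ∈ Zc
    rw [hpz]; exact hzZ
  rw [hΦ] at hy'
  obtain ⟨i, hi, hyi⟩ := Set.mem_iUnion₂.mp hy'
  let ii : Φ := ⟨i, hi⟩
  letI : Algebra Γ(Z, Zc) Γ(Y, (i : Y.Opens)) := alg ii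
  let B := Γ(Y, (i : Y.Opens))
  let Q := i.2.primeIdealOf ⟨y, hyi⟩
  have hQP : Q.asIdeal.comap (algebraMap Γ(Z, Zc) B) = P := by
    refine (congr($(IsAffineOpen.comap_primeIdealOf_appLE Zc hZc (i : Y.Opens) i.2 (hle ii) hyi).asIdeal)).trans ?_
    simp [P, hpz]
  obtain ⟨g₀, hg₀W, hyg₀⟩ := i.2.exists_basicOpen_le (V := u ⁻¹ᵁ W.1) ⟨y, hyW⟩ hyi
  let algD : Algebra B Γ(Y, Y.basicOpen g₀) := (Y.presheaf.map (homOfLE (Y.basicOpen_le g₀)).op).hom.toAlgebra
  have : IsLocalization.Away g₀ Γ(Y, Y.basicOpen g₀) := i.2.isLocalization_basicOpen g₀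
  obtain ⟨⟨a, ⟨_, n, rfl⟩⟩, ha⟩ :=
    IsLocalization.surj (Submonoid.powers g₀) (u.appLE W.1 (Y.basicOpen g₀) hg₀W f)
  -- `a` avoids the relevant associated primes
  have hprime : ∀ (q : Spec Γ(Y, (i : Y.Opens))) (b : B),
      b ∉ q.asIdeal ↔ i.2.fromSpec q ∈ Y.basicOpen b := by
    intro q b
    rw [← Scheme.Hom.mem_preimage, i.2.fromSpec_preimage_basicOpen]
    rfl
  have havoid : ∀ q ∈ associatedPrimes (P.Fiber B) (P.Fiber B),
      g₀ ∉ q.comap (Algebra.TensorProduct.includeRight : B →ₐ[Γ(Z, Zc)] P.Fiber B).toRingHom →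
      a ∉ q.comap (Algebra.TensorProduct.includeRight : B →ₐ[Γ(Z, Zc)] P.Fiber B).toRingHom := by
    intro q hq hgq
    let b₀ : Y := pt ii ⟨q, hq.isPrime⟩
    have hbA : b₀ ∈ A := Set.mem_iUnion.mpr ⟨ii, _, hq, rfl⟩
    have hbg : b₀ ∈ Y.basicOpen g₀ := (hprime _ _).mp hgq
    have hfu : b₀ ∈ Y.basicOpen (u.appLE W.1 (Y.basicOpen g₀) hg₀W f) := by
      rw [Scheme.basicOpen_appLE]
      exact ⟨hbg, hf b₀ hbA (hg₀W hbg)⟩
    refine (hprime (PrimeSpectrum.comap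
      (Algebra.TensorProduct.includeRight : B →ₐ[Γ(Z, Zc)] P.Fiber B).toRingHom ⟨q, hq.isPrime⟩) a).mpr ?_
    have h1 : b₀ ∈ Y.basicOpen (algebraMap B Γ(Y, Y.basicOpen g₀) a) := by
      rw [← ha, Scheme.basicOpen_mul]
      refine ⟨hfu, ?_⟩
      rw [show algebraMap B Γ(Y, Y.basicOpen g₀) (g₀ ^ n) =
          Y.presheaf.map (homOfLE (Y.basicOpen_le g₀)).op (g₀ ^ n) from rfl, Scheme.basicOpen_res]
      refine ⟨hbg, ?_⟩
      rw [SetLike.mem_coe, Scheme.mem_basicOpen _ _ _ (Y.basicOpen_le g₀ hbg), map_pow]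
      exact IsUnit.pow n ((Scheme.mem_basicOpen _ _ _ (Y.basicOpen_le g₀ hbg)).mp hbg)
    rw [show algebraMap B Γ(Y, Y.basicOpen g₀) a =
      Y.presheaf.map (homOfLE (Y.basicOpen_le g₀)).op a from rfl, Scheme.basicOpen_res] at h1
    exact h1.2
  have hgQ : g₀ ∉ Q.asIdeal := (hprime Q g₀).mpr (by rwa [IsAffineOpen.fromSpec_primeIdealOf])
  have : Algebra.FiniteType Γ(Z, Zc) B := hft ii
  have : IsNoetherianRing Γ(Z, Zc) := IsLocallyNoetherian.component_noetherian ⟨Zc, hZc⟩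
  have : Algebra.FinitePresentation Γ(Z, Zc) B := Algebra.FinitePresentation.of_finiteType.mp inferInstance
  have hflatQ : FlatCA.FlatAt Γ(Z, Zc) Q.asIdeal B := by
    letI : Algebra B (Y.presheaf.stalk y) := Y.presheaf.algebra_section_stalk ⟨y, hyi⟩
    have hloc : IsLocalization.AtPrime (Y.presheaf.stalk y) Q.asIdeal := i.2.isLocalization_stalk ⟨y, hyi⟩
    letI : Algebra Γ(Z, Zc) (Y.presheaf.stalk y) :=
      ((algebraMap B (Y.presheaf.stalk y)).comp (algebraMap Γ(Z, Zc) B)).toAlgebra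
    have : IsScalarTower Γ(Z, Zc) B (Y.presheaf.stalk y) := IsScalarTower.of_algebraMap_eq fun _ => rfl
    have hst : (algebraMap Γ(Z, Zc) (Y.presheaf.stalk y)).Flat := by
      have hvy : v y ∈ Zc := by rw [hpz]; exact hzZ
      have e : algebraMap Γ(Z, Zc) (Y.presheaf.stalk y) =
          (v.stalkMap y).hom.comp (Z.presheaf.germ Zc (v y) hvy).hom := by
        refine RingHom.ext fun r => ?_
        show Y.presheaf.germ i y hyi (v.appLE Zc i (hle ii) r) =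
          v.stalkMap y (Z.presheaf.germ Zc (v y) hvy r)
        rw [Scheme.Hom.germ_stalkMap_apply, Scheme.Hom.appLE, CommRingCat.comp_apply]
        exact Y.presheaf.germ_res_apply _ y hyi _
      rw [e]
      refine RingHom.Flat.comp ?_ hflat
      letI := Z.presheaf.algebra_section_stalk ⟨v y, hvy⟩
      have := hZc.isLocalization_stalk ⟨v y, hvy⟩
      exact RingHom.flat_algebraMap_iff.mpr
        (IsLocalization.flat (Z.presheaf.stalk (v y)) (hZc.primeIdealOf ⟨v y, hvy⟩).asIdeal.primeCompl)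
    have : Module.Flat Γ(Z, Zc) (Y.presheaf.stalk y) := RingHom.flat_algebraMap_iff.mp hst
    exact Module.Flat.of_linearEquiv
      ((IsLocalizedModule.iso Q.asIdeal.primeCompl
        (Algebra.linearMap B (Y.presheaf.stalk y))).restrictScalars Γ(Z, Zc))
  obtain ⟨g₁, hg₁Q, hg₁⟩ := Wt.CMSlice.exists_slices Q hflatQ [a] (by
    intro l₁ h l₂ he m hm
    obtain ⟨rfl, he'⟩ : l₁ = [] ∧ a = h := by
      cases l₁ with
      | nil => exact ⟨rfl, by simpa using (List.cons.inj he).1⟩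
      | cons b l => exact absurd (congrArg List.length he) (by simp)
    subst he'
    rw [hQP, Ideal.ofList_nil, sup_bot_eq] at hm ⊢
    exact exists_mul_mem_of_associatedPrimes P Q.asIdeal hQP g₀ hgQ a havoid m hm)
  obtain ⟨-, hflatC⟩ := hg₁ (g₁ * g₀) (dvd_mul_right g₁ g₀) (Localization.Away (g₁ * g₀))
  refine flat_at_chart u v hZc i.2 (hle ii) W f g₀ hg₀W a n ha (g₁ * g₀) (dvd_mul_left g₀ g₁) ?_ p ?_
  · rw [show ((algebraMap B (Localization.Away (g₁ * g₀))).comp (v.appLE Zc i (hle ii)).hom) =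
      algebraMap Γ(Z, Zc) (Localization.Away (g₁ * g₀)) from
        (IsScalarTower.algebraMap_eq Γ(Z, Zc) B (Localization.Away (g₁ * g₀))).symm,
      ← Ideal.Quotient.algebraMap_eq, ← IsScalarTower.algebraMap_eq, RingHom.flat_algebraMap_iff]
    rw [List.map_singleton, Ideal.ofList_singleton] at hflatC
    exact hflatC
  · have h3 := (hprime Q (g₁ * g₀)).mp fun h => (Q.isPrime.mem_or_mem h).elim hg₁Q hgQ
    rwa [IsAffineOpen.fromSpec_primeIdealOf] at h3

end Groth.Agent.GrpdLib.Cut5230
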